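import Mathlib
import Cfsg.Prelude.Def_Blocks
import Cfsg.Agent.Lib.Helper78.CharMore
import Cfsg.Agent.Lib.Helper79.Column
import Cfsg.Agent.Lib.Helper79.Schur
import Cfsg.Agent.Lib.Helper33.PFTenTV1
import Cfsg.Agent.Lib.Helper77.Linear
import Cfsg.Agent.Lib.Helper80.ThreeDeg.LemmaBC

/-!
# Characters multiplicative on coprime prime-power elements: the easy direction (helper30)

If `G = A P` with `P` a normal Sylow `p`-subgroup, `A` abelian of order prime to `p`,
`P = C_P(A) [A,P]`, `C_P(A)` abelian, `[A,P]` normal and `A` acting fixed-point-freely on `[A,P]`,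
then every nonlinear irreducible character vanishes off `P`.
-/

set_option autoImplicit false

namespace Cfsg.Agent.Lib.Helper30.MulChar

open Cfsg
open scoped commutatorElement

variable {G : Type*} [Group G]

/-- if `h` has no nontrivial fixed point (by conjugation) in the finite normal subgroup `D`, then
every element of the coset `D h` is `D`-conjugate to `h`. -/
theorem exists_conj_of_fpf [Finite G] (D : Subgroup G) [hDn : D.Normal] (h : G)
    (hh : ∀ d ∈ D, d * h = h * d → d = 1) (d : G) (hd : d ∈ D) :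
    ∃ v ∈ D, v * h * v⁻¹ = d * h := by
  have hmem : ∀ v : D, (v : G) * h * (v : G)⁻¹ * h⁻¹ ∈ D := by
    intro v
    have h1 : h * (v : G)⁻¹ * h⁻¹ ∈ D := hDn.conj_mem _ (D.inv_mem v.2) h
    have h2 := D.mul_mem v.2 h1
    have h3 : (v : G) * (h * (v : G)⁻¹ * h⁻¹) = (v : G) * h * (v : G)⁻¹ * h⁻¹ := by group
    rwa [h3] at h2
  have hinj : Function.Injective (fun v : D => (⟨(v : G) * h * (v : G)⁻¹ * h⁻¹, hmem v⟩ : D)) := by
    intro v v' hvv
    have h1 : (v : G) * h * (v : G)⁻¹ * h⁻¹ = (v' : G) * h * (v' : G)⁻¹ * h⁻¹ :=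
      congrArg Subtype.val hvv
    have h2 : (v : G) * h * (v : G)⁻¹ = (v' : G) * h * (v' : G)⁻¹ := mul_right_cancel h1
    have h3 : ((v' : G)⁻¹ * (v : G)) * h = h * ((v' : G)⁻¹ * (v : G)) := by
      calc ((v' : G)⁻¹ * (v : G)) * h = (v' : G)⁻¹ * ((v : G) * h * (v : G)⁻¹) * (v : G) := by group
        _ = (v' : G)⁻¹ * ((v' : G) * h * (v' : G)⁻¹) * (v : G) := by rw [h2]
        _ = h * ((v' : G)⁻¹ * (v : G)) := by group
    have h4 := hh _ (D.mul_mem (D.inv_mem v'.2) v.2) h3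
    apply Subtype.ext
    exact (inv_mul_eq_one.mp h4).symm
  have hbij := Finite.injective_iff_bijective.mp hinj
  obtain ⟨v, hv⟩ := hbij.2 ⟨d, hd⟩
  refine ⟨(v : G), v.2, ?_⟩
  have h1 : (v : G) * h * (v : G)⁻¹ * h⁻¹ = d := congrArg Subtype.val hv
  rw [← h1]
  group

/-- two primes with a common nontrivial power as the order of `x` coincide -/
theorem prime_eq_of_orderOf {x : G} (hx : x ≠ 1) {p q a b : ℕ} (hp : p.Prime) (hq : q.Prime)
    (h1 : orderOf x = p ^ a) (h2 : orderOf x = q ^ b) : p = q := by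
  have ha : a ≠ 0 := by
    rintro rfl
    rw [pow_zero, orderOf_eq_one_iff] at h1
    exact hx h1
  have h3 : p ∣ q ^ b := by
    rw [← h2, h1]
    exact dvd_pow_self p ha
  exact (Nat.prime_dvd_prime_iff_eq hp hq).mp (hp.dvd_of_dvd_pow h3)

/-- an irreducible character of degree one is multiplicative -/
theorem irr_mul_of_linear (χ : IrrCharacter G) (h1 : (χ : G → ℂ) 1 = 1) (x y : G) :
    (χ : G → ℂ) (x * y) = (χ : G → ℂ) x * (χ : G → ℂ) y := by
  obtain ⟨φ, hφ⟩ := Cfsg.Agent.Lib.Helper77.exists_monoidHom_of_degree_one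
    (Cfsg.Agent.Lib.Helper78.IsIrrCharacter.isCharacter χ.2) h1
  rw [hφ, hφ, hφ, map_mul, Units.val_mul]

/-- In the structure `G = A P` of the theorem, nonlinear irreducible characters vanish off `P`. -/
theorem irr_vanish_off_sylow [Finite G] (p : ℕ) [hp : Fact p.Prime] (P : Sylow p G)
    (A : Subgroup G) (hPn : (P : Subgroup G).Normal) (hAc : ∀ a ∈ A, ∀ b ∈ A, a * b = b * a)
    (hAp : (Nat.card ↥A).Coprime p) (hAP : A ⊔ (P : Subgroup G) = ⊤)
    (hCc : IsMulCommutative ↥((P : Subgroup G) ⊓ Subgroup.centralizer (A : Set G)))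
    (hDn : (⁅A, (P : Subgroup G)⁆).Normal)
    (hCD : ((P : Subgroup G) ⊓ Subgroup.centralizer (A : Set G)) ⊔ ⁅A, (P : Subgroup G)⁆ =
      (P : Subgroup G))
    (hfpf : ∀ a ∈ A, a ≠ 1 → ∀ d ∈ ⁅A, (P : Subgroup G)⁆, a * d = d * a → d = 1)
    (χ : IrrCharacter G) (hχ : (χ : G → ℂ) 1 ≠ 1) (g : G) (hg : g ∉ (P : Subgroup G)) :
    (χ : G → ℂ) g = 0 := by
  classical
  have hfin : Fintype G := Fintype.ofFinite G
  have hDP : ⁅A, (P : Subgroup G)⁆ ≤ (P : Subgroup G) := by
    conv_rhs => rw [← hCD]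
    exact le_sup_right
  -- decomposition
  have hdec : ∀ g : G, ∃ a ∈ A,
      ∃ c ∈ (P : Subgroup G) ⊓ Subgroup.centralizer (A : Set G),
      ∃ d ∈ ⁅A, (P : Subgroup G)⁆, g = a * (c * d) := by
    intro g
    have hg : g ∈ ((A ⊔ (P : Subgroup G) : Subgroup G) : Set G) := by rw [hAP]; trivial
    rw [Subgroup.mul_normal] at hg
    obtain ⟨a, ha, u, hu, rfl⟩ := Set.mem_mul.mp hg
    have hu' : u ∈ ((((P : Subgroup G) ⊓ Subgroup.centralizer (A : Set G)) ⊔
        ⁅A, (P : Subgroup G)⁆ : Subgroup G) : Set G) := by rw [hCD]; exact hu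
    rw [Subgroup.mul_normal] at hu'
    obtain ⟨c, hc, d, hd, rfl⟩ := Set.mem_mul.mp hu'
    exact ⟨a, ha, c, hc, d, hd, rfl⟩
  -- the quotient by `D` is abelian
  have hcomm : commutator G ≤ ⁅A, (P : Subgroup G)⁆ := by
    rw [commutator_def, Subgroup.commutator_le]
    intro g₁ _ g₂ _
    obtain ⟨a₁, ha₁, c₁, hc₁, d₁, hd₁, rfl⟩ := hdec g₁
    obtain ⟨a₂, ha₂, c₂, hc₂, d₂, hd₂, rfl⟩ := hdec g₂
    have hπ : ∀ d ∈ ⁅A, (P : Subgroup G)⁆, (QuotientGroup.mk' ⁅A, (P : Subgroup G)⁆) d = 1 :=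
      fun d hd => (QuotientGroup.eq_one_iff d).mpr hd
    have hone : ⁅a₁ * c₁, a₂ * c₂⁆ = 1 := by
      rw [commutatorElement_eq_one_iff_mul_comm]
      have haa : Commute a₁ a₂ := hAc a₁ ha₁ a₂ ha₂
      have hac12 : Commute a₁ c₂ := Subgroup.mem_centralizer_iff.mp hc₂.2 a₁ ha₁
      have hca21 : Commute c₁ a₂ := (Subgroup.mem_centralizer_iff.mp hc₁.2 a₂ ha₂).symm
      have hcc : Commute c₁ c₂ := by
        have h := hCc.is_comm.comm (⟨c₁, hc₁⟩ : ↥((P : Subgroup G) ⊓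
          Subgroup.centralizer (A : Set G))) ⟨c₂, hc₂⟩
        exact congrArg Subtype.val h
      exact ((Commute.mul_right haa hac12).mul_left (Commute.mul_right hca21 hcc)).eq
    have key : (QuotientGroup.mk' ⁅A, (P : Subgroup G)⁆) ⁅a₁ * (c₁ * d₁), a₂ * (c₂ * d₂)⁆ = 1 := by
      rw [map_commutatorElement, map_mul, map_mul, map_mul, map_mul, hπ d₁ hd₁, hπ d₂ hd₂,
        mul_one, mul_one, ← map_mul, ← map_mul, ← map_commutatorElement, hone, map_one]
    exact (QuotientGroup.eq_one_iff _).mp key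
  -- `D` is not in the kernel of `χ`
  have hker : ∃ w ∈ ⁅A, (P : Subgroup G)⁆, (χ : G → ℂ) w ≠ (χ : G → ℂ) 1 := by
    by_contra hcon
    push Not at hcon
    have h1 := Cfsg.Agent.Lib.Helper80.ThreeDeg.charDegree_eq_one_of_commutator_le χ
      (fun x hx => hcon x (hcomm hx))
    apply hχ
    rw [Cfsg.Agent.Lib.Helper78.IsCharacter.apply_one_eq_charDegree
      (Cfsg.Agent.Lib.Helper78.IsIrrCharacter.isCharacter χ.2), h1]
    simp
  obtain ⟨a, ha, c, hc, d, hd, rfl⟩ := hdec g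
  have ha1 : a ≠ 1 := by
    rintro rfl
    apply hg
    rw [one_mul]
    exact (P : Subgroup G).mul_mem hc.1 (hDP hd)
  have hac : Commute a c := Subgroup.mem_centralizer_iff.mp hc.2 a ha
  -- `a c` acts fixed-point-freely on `D`
  have hfix : ∀ w ∈ ⁅A, (P : Subgroup G)⁆, w * (a * c) = (a * c) * w → w = 1 := by
    intro w hw hwc
    obtain ⟨k, hk⟩ : ∃ k, orderOf c = p ^ k := by
      obtain ⟨k, hk⟩ := (IsPGroup.iff_orderOf.mp P.2) ⟨c, hc.1⟩
      exact ⟨k, by rw [← hk, ← Subgroup.orderOf_coe]⟩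
    have hpow : (a * c) ^ (p ^ k) = a ^ (p ^ k) := by
      rw [hac.mul_pow, ← hk, pow_orderOf_eq_one, mul_one]
    have hane : a ^ (p ^ k) ≠ 1 := by
      intro h1
      have h2 : orderOf a ∣ p ^ k := orderOf_dvd_of_pow_eq_one h1
      have h3 : orderOf a ∣ Nat.card A := Subgroup.orderOf_dvd_natCard A ha
      have h4 : (orderOf a).Coprime (p ^ k) :=
        Nat.Coprime.pow_right k (Nat.Coprime.coprime_dvd_left h3 hAp)
      exact ha1 (orderOf_eq_one_iff.mp (h4.eq_one_of_dvd h2))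
    have hcw : Commute w ((a * c) ^ (p ^ k)) := Commute.pow_right hwc (p ^ k)
    rw [hpow] at hcw
    exact hfpf _ (A.pow_mem ha _) hane w hw hcw.symm.eq
  have hvan : (χ : G → ℂ) (a * c) = 0 :=
    Cfsg.Agent.Lib.Helper33.PFTenT.irr_vanish_of_fpf ⁅A, (P : Subgroup G)⁆ χ χ.2 hker (a * c) hfix
  obtain ⟨v, _, hv⟩ := exists_conj_of_fpf ⁅A, (P : Subgroup G)⁆ (a * c) hfix
    ((a * c) * d * (a * c)⁻¹) (hDn.conj_mem d hd (a * c))
  have hg' : a * (c * d) = v * (a * c) * v⁻¹ := by rw [hv]; group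
  rw [hg', Cfsg.Agent.Lib.Helper79.irr_conj_apply]
  exact hvan

/-- In the structure `G = A P` of the theorem, irreducible characters are multiplicative on pairs
of nontrivial elements of prime power orders for two different primes. -/
theorem mul_of_structure [Finite G] (p : ℕ) [hp : Fact p.Prime] (P : Sylow p G)
    (A : Subgroup G) (hPn : (P : Subgroup G).Normal) (hAc : ∀ a ∈ A, ∀ b ∈ A, a * b = b * a)
    (hAp : (Nat.card ↥A).Coprime p) (hAP : A ⊔ (P : Subgroup G) = ⊤)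
    (hCc : IsMulCommutative ↥((P : Subgroup G) ⊓ Subgroup.centralizer (A : Set G)))
    (hDn : (⁅A, (P : Subgroup G)⁆).Normal)
    (hCD : ((P : Subgroup G) ⊓ Subgroup.centralizer (A : Set G)) ⊔ ⁅A, (P : Subgroup G)⁆ =
      (P : Subgroup G))
    (hfpf : ∀ a ∈ A, a ≠ 1 → ∀ d ∈ ⁅A, (P : Subgroup G)⁆, a * d = d * a → d = 1)
    (x y : G) (χ : IrrCharacter G) (hx : x ≠ 1) (hy : y ≠ 1)
    (hxy : ∃ p q a b : ℕ, p.Prime ∧ q.Prime ∧ p ≠ q ∧ orderOf x = p ^ a ∧ orderOf y = q ^ b) :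
    (χ : G → ℂ) (x * y) = (χ : G → ℂ) x * (χ : G → ℂ) y := by
  by_cases hlin : (χ : G → ℂ) 1 = 1
  · exact irr_mul_of_linear χ hlin x y
  have hvan := fun g hg =>
    irr_vanish_off_sylow p P A hPn hAc hAp hAP hCc hDn hCD hfpf χ hlin g hg
  obtain ⟨p', q, a, b, hp', hq, hne, hxo, hyo⟩ := hxy
  have hmemP : ∀ z ∈ (P : Subgroup G), ∃ k, orderOf z = p ^ k := by
    intro z hz
    obtain ⟨k, hk⟩ := (IsPGroup.iff_orderOf.mp P.2) ⟨z, hz⟩
    exact ⟨k, by rw [← hk, ← Subgroup.orderOf_coe]⟩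
  by_cases hxP : x ∈ (P : Subgroup G)
  · have hyP : y ∉ (P : Subgroup G) := by
      intro hyP
      obtain ⟨k, hk⟩ := hmemP x hxP
      obtain ⟨l, hl⟩ := hmemP y hyP
      have e1 : p = p' := prime_eq_of_orderOf hx hp.out hp' hk hxo
      have e2 : p = q := prime_eq_of_orderOf hy hp.out hq hl hyo
      exact hne (e1.symm.trans e2)
    have hxyP : x * y ∉ (P : Subgroup G) := by
      intro h
      apply hyP
      have := (P : Subgroup G).mul_mem ((P : Subgroup G).inv_mem hxP) h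
      rwa [inv_mul_cancel_left] at this
    rw [hvan _ hxyP, hvan _ hyP, mul_zero]
  · have hxyP : x * y ∉ (P : Subgroup G) := by
      intro h
      by_cases hyP : y ∈ (P : Subgroup G)
      · apply hxP
        have := (P : Subgroup G).mul_mem h ((P : Subgroup G).inv_mem hyP)
        rwa [mul_inv_cancel_right] at this
      · have hPn' : (P : Subgroup G).Normal := hPn
        have h1 : (QuotientGroup.mk' (P : Subgroup G)) x * (QuotientGroup.mk' (P : Subgroup G)) y
            = 1 := by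
          rw [← map_mul]
          exact (QuotientGroup.eq_one_iff _).mpr h
        have h2 : (QuotientGroup.mk' (P : Subgroup G)) y =
            ((QuotientGroup.mk' (P : Subgroup G)) x)⁻¹ := eq_inv_of_mul_eq_one_right h1
        have d1 : orderOf ((QuotientGroup.mk' (P : Subgroup G)) x) ∣ p' ^ a :=
          hxo ▸ orderOf_map_dvd (QuotientGroup.mk' (P : Subgroup G)) x
        have d2 : orderOf ((QuotientGroup.mk' (P : Subgroup G)) x) ∣ q ^ b := by
          have := orderOf_map_dvd (QuotientGroup.mk' (P : Subgroup G)) y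
          rw [h2, orderOf_inv, hyo] at this
          exact this
        have hcop : (p' ^ a).Coprime (q ^ b) :=
          Nat.Coprime.pow a b ((Nat.coprime_primes hp' hq).mpr hne)
        have h3 : orderOf ((QuotientGroup.mk' (P : Subgroup G)) x) = 1 :=
          (Nat.Coprime.coprime_dvd_left d1 hcop).eq_one_of_dvd d2
        exact hxP ((QuotientGroup.eq_one_iff x).mp (orderOf_eq_one_iff.mp h3))
    rw [hvan _ hxyP, hvan _ hxP, zero_mul]

end Cfsg.Agent.Lib.Helper30.MulChar
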