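import Mathlib
import Cfsg.Prelude.Def_Blocks
import Cfsg.Agent.Lib.Helper30.MulChar.Backward
import Cfsg.Agent.Lib.Helper78.InvolKernel
import Cfsg.Agent.Lib.Helper35.FpfCyclic

/-!
# Characters multiplicative on coprime prime-power elements: the hard direction (helper30)

If `χ(xy) = χ(x)χ(y)` for all irreducible `χ` and all nontrivial `x`, `y` of prime power orders for
two different primes, then nonlinear irreducible characters vanish on all `q`-elements for
`q ≠ p` (a fixed prime `p`), the commutator subgroup is a `p`-group, and the structure follows.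
-/

set_option autoImplicit false

namespace Cfsg.Agent.Lib.Helper30.MulChar

open Cfsg
open scoped commutatorElement

/-! ### Arithmetic -/

theorem arith_dom {n m p : ℕ} (hn : n ≠ 0) (hm : m ≠ 0) (hmn : m ^ 2 < n) (hp : p.Prime)
    (h : ∀ q : ℕ, q.Prime → q ≠ p → q ^ n.factorization q ∣ m) :
    n < (p ^ n.factorization p) ^ 2 := by
  have hac : p ^ n.factorization p * (n / p ^ n.factorization p) = n :=
    Nat.ordProj_mul_ordCompl_eq_self n p
  have hc0 : n / p ^ n.factorization p ≠ 0 := by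
    intro h0
    rw [h0, mul_zero] at hac
    exact hn hac.symm
  have hcm : n / p ^ n.factorization p ∣ m := by
    rw [← Nat.factorization_prime_le_iff_dvd hc0 hm]
    intro q hq
    rw [Nat.factorization_ordCompl]
    by_cases hqp : q = p
    · subst hqp
      simp
    · rw [Finsupp.erase_ne hqp]
      exact (hq.pow_dvd_iff_le_factorization hm).mp (h q hq hqp)
  have hcle : n / p ^ n.factorization p ≤ m := Nat.le_of_dvd (Nat.pos_of_ne_zero hm) hcm
  have hapos : 0 < p ^ n.factorization p := pos_of_ne_zero (pow_ne_zero _ hp.ne_zero)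
  nlinarith [Nat.mul_le_mul hcle hcle]

theorem arith_two {n p q : ℕ} (hn : n ≠ 0) (hp : p.Prime) (hq : q.Prime) (hpq : p ≠ q)
    (h1 : n < (p ^ n.factorization p) ^ 2) (h2 : n < (q ^ n.factorization q) ^ 2) : False := by
  have hcop : (p ^ n.factorization p).Coprime (q ^ n.factorization q) :=
    Nat.Coprime.pow _ _ ((Nat.coprime_primes hp hq).mpr hpq)
  have hdvd := Nat.Coprime.mul_dvd_of_dvd_of_dvd hcop (Nat.ordProj_dvd n p) (Nat.ordProj_dvd n q)
  have hle := Nat.le_of_dvd (Nat.pos_of_ne_zero hn) hdvd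
  nlinarith [Nat.mul_le_mul hle hle, Nat.mul_lt_mul'' h1 h2]

/-! ### Character theory -/

variable {G : Type*} [Group G]

/-- the hypothesis of the theorem -/
def MulHyp (G : Type*) [Group G] : Prop :=
  ∀ (x y : G) (χ : Cfsg.IrrCharacter G), x ≠ 1 → y ≠ 1 →
    (∃ p q a b : ℕ, p.Prime ∧ q.Prime ∧ p ≠ q ∧ orderOf x = p ^ a ∧ orderOf y = q ^ b) →
    (χ : G → ℂ) (x * y) = (χ : G → ℂ) x * (χ : G → ℂ) y

/-- `χ` vanishes on all nontrivial `q`-elements -/
def Van (χ : IrrCharacter G) (q : ℕ) : Prop :=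
  ∀ y : G, y ≠ 1 → ∀ b : ℕ, orderOf y = q ^ b → (χ : G → ℂ) y = 0

theorem mul_eq_zero_of_nonlinear [Finite G] (H : MulHyp G) (χ : IrrCharacter G)
    (hχ : (χ : G → ℂ) 1 ≠ 1) (x y : G) (hx : x ≠ 1) (hy : y ≠ 1)
    (hxy : ∃ p q a b : ℕ, p.Prime ∧ q.Prime ∧ p ≠ q ∧ orderOf x = p ^ a ∧ orderOf y = q ^ b) :
    (χ : G → ℂ) x * (χ : G → ℂ) y = 0 := by
  classical
  have hfin : Fintype G := Fintype.ofFinite G
  have h := Cfsg.Agent.Lib.Helper79.irr_sum_conj_mul χ x y
  have hterm : ∀ a : G, (χ : G → ℂ) (a * x * a⁻¹ * y) = (χ : G → ℂ) x * (χ : G → ℂ) y := by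
    intro a
    obtain ⟨p, q, k, l, hp, hq, hne, hxo, hyo⟩ := hxy
    have hx' : a * x * a⁻¹ ≠ 1 := by rwa [Ne, conj_eq_one_iff]
    have ho : orderOf (a * x * a⁻¹) = orderOf x := by
      have := MulEquiv.orderOf_eq (MulAut.conj a) x
      rwa [MulAut.conj_apply] at this
    rw [H (a * x * a⁻¹) y χ hx' hy ⟨p, q, k, l, hp, hq, hne, ho.trans hxo, hyo⟩,
      Cfsg.Agent.Lib.Helper79.irr_conj_apply]
  rw [Finset.sum_congr rfl (fun a _ => hterm a), Finset.sum_const, Finset.card_univ, nsmul_eq_mul,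
    ← Nat.card_eq_fintype_card] at h
  have hcard : (Nat.card G : ℂ) ≠ 0 := by exact_mod_cast (Nat.card_pos (α := G)).ne'
  have h1 : (χ : G → ℂ) 1 ≠ 0 := Cfsg.Agent.Lib.Helper78.IsIrrCharacter.apply_one_ne_zero χ.2
  rw [eq_div_iff h1] at h
  have h2 : (Nat.card G : ℂ) * ((χ : G → ℂ) x * (χ : G → ℂ) y) * ((χ : G → ℂ) 1 - 1) = 0 := by
    linear_combination h
  rcases mul_eq_zero.mp h2 with h3 | h3
  · rcases mul_eq_zero.mp h3 with h4 | h4
    · exact absurd h4 hcard
    · exact h4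
  · exact absurd (sub_eq_zero.mp h3) hχ

theorem van_of_not_van [Finite G] (H : MulHyp G) (χ : IrrCharacter G)
    (hχ : (χ : G → ℂ) 1 ≠ 1) {q r : ℕ} (hq : q.Prime) (hr : r.Prime) (hqr : q ≠ r)
    (hnv : ¬ Van χ q) : Van χ r := by
  unfold Van at hnv
  push Not at hnv
  obtain ⟨y, hy, b, hyo, hy0⟩ := hnv
  intro z hz c hzo
  have := mul_eq_zero_of_nonlinear H χ hχ y z hy hz ⟨q, r, b, c, hq, hr, hqr, hyo, hzo⟩
  rcases mul_eq_zero.mp this with h | h
  · exact absurd h hy0
  · exact h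

theorem pow_dvd_degree_of_van [Finite G] (χ : IrrCharacter G) {q : ℕ} (hq : q.Prime)
    (hv : Van χ q) : q ^ (Nat.card G).factorization q ∣ charDegree (χ : G → ℂ) := by
  have := Fact.mk hq
  obtain ⟨Q⟩ : Nonempty (Sylow q G) := inferInstance
  have h := Cfsg.Agent.Lib.Helper78.card_dvd_degree_sub_of_const
    (Cfsg.Agent.Lib.Helper78.IsIrrCharacter.isCharacter χ.2) (Q : Subgroup G) 0 (by
      intro k hk hk1
      obtain ⟨b, hb⟩ := (IsPGroup.iff_orderOf.mp Q.2) ⟨k, hk⟩
      rw [Int.cast_zero]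
      exact hv k hk1 b (by rw [← hb, ← Subgroup.orderOf_coe]))
  rw [sub_zero, Q.card_eq_multiplicity] at h
  exact_mod_cast h

theorem degree_sq_lt_card [Finite G] (χ : IrrCharacter G) (hχ : (χ : G → ℂ) 1 ≠ 1) :
    charDegree (χ : G → ℂ) ^ 2 < Nat.card G := by
  classical
  have hfin : Fintype G := Fintype.ofFinite G
  have hne : χ ≠ ⟨fun _ => 1, Cfsg.Agent.Lib.Helper78.isIrrCharacter_one⟩ := by
    intro h
    apply hχ
    rw [h]
  have hτ : charDegree ((⟨fun _ => 1, Cfsg.Agent.Lib.Helper78.isIrrCharacter_one⟩ :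
      IrrCharacter G) : G → ℂ) = 1 := by
    simp [charDegree]
  have hsum := Cfsg.Agent.Lib.Helper78.sum_irr_charDegree_sq (G := G)
  have hle : ∑ ψ ∈ ({χ, ⟨fun _ => 1, Cfsg.Agent.Lib.Helper78.isIrrCharacter_one⟩} :
        Finset (IrrCharacter G)), charDegree (ψ : G → ℂ) ^ 2 ≤
      ∑ ψ : IrrCharacter G, charDegree (ψ : G → ℂ) ^ 2 :=
    Finset.sum_le_sum_of_subset (Finset.subset_univ _)
  rw [Finset.sum_pair hne, hτ, hsum, one_pow] at hle
  omega

theorem dom_of_not_van [Finite G] (H : MulHyp G) (χ : IrrCharacter G)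
    (hχ : (χ : G → ℂ) 1 ≠ 1) {q : ℕ} (hq : q.Prime) (hnv : ¬ Van χ q) :
    Nat.card G < (q ^ (Nat.card G).factorization q) ^ 2 := by
  apply arith_dom (m := charDegree (χ : G → ℂ)) Nat.card_pos.ne'
    (Cfsg.Agent.Lib.Helper78.IsIrrCharacter.charDegree_pos χ.2).ne' (degree_sq_lt_card χ hχ) hq
  intro r hr hrq
  exact pow_dvd_degree_of_van χ hr (van_of_not_van H χ hχ hq hr (Ne.symm hrq) hnv)

theorem exists_prime_van [Finite G] (H : MulHyp G) :
    ∃ p : ℕ, p.Prime ∧ ∀ χ : IrrCharacter G, (χ : G → ℂ) 1 ≠ 1 →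
      ∀ q : ℕ, q.Prime → q ≠ p → Van χ q := by
  by_contra hcon
  push Not at hcon
  obtain ⟨χ₁, hχ₁, q₁, hq₁, -, hv₁⟩ := hcon 2 Nat.prime_two
  obtain ⟨χ₂, hχ₂, q₂, hq₂, hne, hv₂⟩ := hcon q₁ hq₁
  exact arith_two Nat.card_pos.ne' hq₁ hq₂ (Ne.symm hne) (dom_of_not_van H χ₁ hχ₁ hq₁ hv₁)
    (dom_of_not_van H χ₂ hχ₂ hq₂ hv₂)

theorem not_mem_commutator [Finite G] (p : ℕ)
    (hvan : ∀ χ : IrrCharacter G, (χ : G → ℂ) 1 ≠ 1 → ∀ q : ℕ, q.Prime → q ≠ p → Van χ q)
    {q : ℕ} (hq : q.Prime) (hqp : q ≠ p) (y : G) (hy : y ≠ 1) (b : ℕ)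
    (hyo : orderOf y = q ^ b) : y ∉ commutator G := by
  classical
  have hfin : Fintype G := Fintype.ofFinite G
  intro hmem
  have hnc : ¬ IsConj y 1 := by
    rw [isConj_one_left]
    exact hy
  have h0 := Cfsg.Agent.Lib.Helper78.second_orthogonality_of_not_isConj hnc
  have hterm : ∀ χ : IrrCharacter G, (χ : G → ℂ) y * (starRingEnd ℂ) ((χ : G → ℂ) 1) =
      if (χ : G → ℂ) 1 = 1 then 1 else 0 := by
    intro χ
    split_ifs with h1
    · rw [Cfsg.Agent.Lib.Helper77.linear_character_eq_one_of_mem_commutator χ h1 y hmem, h1,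
        map_one, mul_one]
    · rw [hvan χ h1 q hq hqp y hy b hyo, zero_mul]
  rw [Finset.sum_congr rfl (fun χ _ => hterm χ), Finset.sum_boole] at h0
  have hpos : 0 < (Finset.univ.filter (fun χ : IrrCharacter G => (χ : G → ℂ) 1 = 1)).card := by
    apply Finset.card_pos.mpr
    exact ⟨⟨fun _ => 1, Cfsg.Agent.Lib.Helper78.isIrrCharacter_one⟩, by simp⟩
  have hne : ((Finset.univ.filter (fun χ : IrrCharacter G => (χ : G → ℂ) 1 = 1)).card : ℂ) ≠ 0 := by
    exact_mod_cast hpos.ne'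
  exact hne h0

theorem isPGroup_commutator [Finite G] (p : ℕ) [hp : Fact p.Prime]
    (hvan : ∀ χ : IrrCharacter G, (χ : G → ℂ) 1 ≠ 1 → ∀ q : ℕ, q.Prime → q ≠ p → Van χ q) :
    IsPGroup p ↥(commutator G) := by
  rw [IsPGroup.iff_orderOf]
  intro w
  have hw0 : orderOf (w : G) ≠ 0 := (orderOf_pos (w : G)).ne'
  have h := Nat.eq_prime_pow_of_unique_prime_dvd hw0 (p := p) (by
    intro d hd hdvd
    by_contra hdp
    have ho := orderOf_pow_orderOf_div hw0 hdvd
    have hmem : (w : G) ^ (orderOf (w : G) / d) ∈ commutator G := (commutator G).pow_mem w.2 _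
    have hne : (w : G) ^ (orderOf (w : G) / d) ≠ 1 := by
      intro h1
      rw [h1, orderOf_one] at ho
      exact hd.one_lt.ne ho
    exact not_mem_commutator p hvan hd hdp _ hne 1 (by rw [ho, pow_one]) hmem)
  exact ⟨_, by rw [← Subgroup.orderOf_coe]; exact h⟩

/-! ### The structure -/

theorem structure_of_mulHyp [Finite G] (H : MulHyp G) (hab : ¬ IsMulCommutative G)
    (hpg : ¬ ∃ p : ℕ, p.Prime ∧ IsPGroup p G) :
    ∃ (p : ℕ) (_ : Fact p.Prime) (P : Sylow p G) (A : Subgroup G),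
      (P : Subgroup G).Normal ∧ IsCyclic ↥A ∧ A ≠ ⊥ ∧ (Nat.card ↥A).Coprime p ∧
      A ⊔ (P : Subgroup G) = ⊤ ∧
      IsMulCommutative ↥((P : Subgroup G) ⊓ Subgroup.centralizer (A : Set G)) ∧
      (⁅A, (P : Subgroup G)⁆).Normal ∧
      ((P : Subgroup G) ⊓ Subgroup.centralizer (A : Set G)) ⊔ ⁅A, (P : Subgroup G)⁆ =
        (P : Subgroup G) ∧
      ((P : Subgroup G) ⊓ Subgroup.centralizer (A : Set G)) ⊓ ⁅A, (P : Subgroup G)⁆ = ⊥ ∧
      ∀ a ∈ A, a ≠ 1 → ∀ d ∈ ⁅A, (P : Subgroup G)⁆, a * d = d * a → d = 1 := by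
  classical
  obtain ⟨p, hp, hvan⟩ := exists_prime_van H
  have hpF : Fact p.Prime := ⟨hp⟩
  have hD0 : IsPGroup p ↥(commutator G) := isPGroup_commutator p hvan
  obtain ⟨P, hDP⟩ := hD0.exists_le_sylow
  have hcomm_mem : ∀ a b : G, ⁅a, b⁆ ∈ commutator G := fun a b => by
    rw [commutator_def]
    exact Subgroup.commutator_mem_commutator (Subgroup.mem_top a) (Subgroup.mem_top b)
  have hPn : (P : Subgroup G).Normal := by
    refine ⟨fun x hx g => ?_⟩
    have h2 : g * x * g⁻¹ = ⁅g, x⁆ * x := by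
      rw [commutatorElement_def]
      group
    rw [h2]
    exact (P : Subgroup G).mul_mem (hDP (hcomm_mem g x)) hx
  obtain ⟨A, hA⟩ := Subgroup.exists_right_complement'_of_coprime (N := (P : Subgroup G))
    P.card_coprime_index
  have hAP : A ⊔ (P : Subgroup G) = ⊤ := by
    rw [sup_comm]
    exact hA.sup_eq_top
  have hdisj : ∀ g, g ∈ A → g ∈ (P : Subgroup G) → g = 1 := by
    intro g hgA hgP
    exact (Subgroup.disjoint_def.mp hA.disjoint) hgP hgA
  have hAp : (Nat.card ↥A).Coprime p := by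
    rw [← hA.symm.index_eq_card]
    exact ((Nat.Prime.coprime_iff_not_dvd hp).mpr P.not_dvd_index).symm
  have hAne : A ≠ ⊥ := by
    rintro rfl
    apply hpg
    refine ⟨p, hp, ?_⟩
    rw [bot_sup_eq] at hAP
    intro g
    obtain ⟨k, hk⟩ := P.2 ⟨g, by rw [hAP]; trivial⟩
    exact ⟨k, by simpa using congrArg Subtype.val hk⟩
  have hAc : ∀ a ∈ A, ∀ b ∈ A, a * b = b * a := by
    intro a ha b hb
    rw [← commutatorElement_eq_one_iff_mul_comm]
    apply hdisj
    · rw [commutatorElement_def]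
      exact A.mul_mem (A.mul_mem (A.mul_mem ha hb) (A.inv_mem ha)) (A.inv_mem hb)
    · exact hDP (hcomm_mem a b)
  have hq_ne : ∀ a ∈ A, a ≠ 1 → ∀ q b : ℕ, q.Prime → orderOf a = q ^ b → q ≠ p := by
    intro a ha ha1 q b hq hao hqp
    have hb0 : b ≠ 0 := by
      rintro rfl
      rw [pow_zero, orderOf_eq_one_iff] at hao
      exact ha1 hao
    have h3 : orderOf a ∣ Nat.card A := Subgroup.orderOf_dvd_natCard A ha
    have hcop : (orderOf a).Coprime p := Nat.Coprime.coprime_dvd_left h3 hAp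
    have hdvd : p ∣ orderOf a := by
      rw [hao, hqp]
      exact dvd_pow_self p hb0
    exact hp.one_lt.ne' (hcop.symm.eq_one_of_dvd hdvd)
  have hwo : ∀ w ∈ commutator G, ∃ k, orderOf w = p ^ k := by
    intro w hw
    obtain ⟨k, hk⟩ := (IsPGroup.iff_orderOf.mp hD0) ⟨w, hw⟩
    exact ⟨k, by rw [← hk, ← Subgroup.orderOf_coe]⟩
  -- the key conjugacy
  have hK : ∀ a ∈ A, a ≠ 1 → ∀ q b : ℕ, q.Prime → orderOf a = q ^ b →
      ∀ w ∈ commutator G, IsConj (w * a) a := by
    intro a ha ha1 q b hq hao w hw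
    have hfin : Fintype G := Fintype.ofFinite G
    by_cases hw1 : w = 1
    · rw [hw1, one_mul]
    have hqp := hq_ne a ha ha1 q b hq hao
    obtain ⟨k, hk⟩ := hwo w hw
    apply Cfsg.Agent.Lib.Helper78.isConj_of_forall_irr_eq
    intro χ
    rw [H w a χ hw1 ha1 ⟨p, q, k, b, hp, hq, Ne.symm hqp, hk, hao⟩]
    by_cases hlin : (χ : G → ℂ) 1 = 1
    · rw [Cfsg.Agent.Lib.Helper77.linear_character_eq_one_of_mem_commutator χ hlin w hw, one_mul]
    · rw [hvan χ hlin q hq hqp a ha1 b hao, mul_zero]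
  have hb : ∀ a ∈ A, a ≠ 1 → ∀ q b : ℕ, q.Prime → orderOf a = q ^ b →
      ∀ w ∈ commutator G, w * a = a * w → w = 1 := by
    intro a ha ha1 q b hq hao w hw hwa
    obtain ⟨c, hc⟩ := isConj_iff.mp (hK a ha ha1 q b hq hao w hw)
    have ho : orderOf (w * a) = orderOf a := by
      calc orderOf (w * a) = orderOf (c * (w * a) * c⁻¹) := by
            have := MulEquiv.orderOf_eq (MulAut.conj c) (w * a)
            rw [MulAut.conj_apply] at this
            exact this.symm
        _ = orderOf a := by rw [hc]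
    obtain ⟨k, hk⟩ := hwo w hw
    have hqp := hq_ne a ha ha1 q b hq hao
    have hcop : (orderOf w).Coprime (orderOf a) := by
      rw [hk, hao]
      exact Nat.Coprime.pow k b ((Nat.coprime_primes hp hq).mpr (Ne.symm hqp))
    have h2 := Commute.orderOf_mul_eq_mul_orderOf_of_coprime (show Commute w a from hwa) hcop
    rw [ho] at h2
    have hpos : 0 < orderOf a := orderOf_pos a
    have h3 : orderOf w = 1 := by
      have h4 : 1 * orderOf a = orderOf w * orderOf a := by rw [one_mul]; exact h2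
      exact (Nat.eq_of_mul_eq_mul_right hpos h4).symm
    exact orderOf_eq_one_iff.mp h3
  -- an element of prime order in `A`
  obtain ⟨y, hyA, q, hq, hyo⟩ : ∃ y ∈ A, ∃ q : ℕ, q.Prime ∧ orderOf y = q := by
    have hnt : Nontrivial A := (Subgroup.nontrivial_iff_ne_bot A).mpr hAne
    have hcard : Nat.card A ≠ 1 := by
      have : 1 < Nat.card A := Finite.one_lt_card
      omega
    obtain ⟨q, hq, hqd⟩ := Nat.exists_prime_and_dvd hcard
    have := Fact.mk hq
    obtain ⟨y, hy⟩ := exists_prime_orderOf_dvd_card' (G := A) q hqd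
    exact ⟨(y : G), y.2, q, hq, by rw [Subgroup.orderOf_coe]; exact hy⟩
  have hy1 : y ≠ 1 := by
    intro h
    rw [h, orderOf_one] at hyo
    exact hq.one_lt.ne hyo
  have hyo' : orderOf y = q ^ 1 := by rw [pow_one]; exact hyo
  have hby : ∀ w ∈ commutator G, w * y = y * w → w = 1 := hb y hyA hy1 q 1 hq hyo'
  -- `[A, P] = G'`
  have hD_eq : ⁅A, (P : Subgroup G)⁆ = commutator G := by
    apply le_antisymm
    · rw [commutator_def]
      exact Subgroup.commutator_mono le_top le_top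
    · intro w hw
      obtain ⟨g, hg⟩ := isConj_iff.mp (hK y hyA hy1 q 1 hq hyo' w hw).symm
      have hgm : g ∈ (((P : Subgroup G) ⊔ A : Subgroup G) : Set G) := by
        rw [sup_comm, hAP]
        trivial
      rw [Subgroup.normal_mul] at hgm
      obtain ⟨u, hu, a', ha', rfl⟩ := Set.mem_mul.mp hgm
      have hcomm' : a' * y = y * a' := hAc a' ha' y hyA
      have hw_eq : w = ⁅u, y⁆ := by
        rw [commutatorElement_def]
        have h1 : w = (u * a') * y * (u * a')⁻¹ * y⁻¹ := by rw [hg]; group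
        rw [h1]
        have h2 : a' * y * a'⁻¹ = y := by rw [hcomm']; group
        calc u * a' * y * (u * a')⁻¹ * y⁻¹ = u * (a' * y * a'⁻¹) * u⁻¹ * y⁻¹ := by group
          _ = u * y * u⁻¹ * y⁻¹ := by rw [h2]
      rw [hw_eq, Subgroup.commutator_comm]
      exact Subgroup.commutator_mem_commutator hu hyA
  -- `C_P(y) ≤ C_P(A)`
  have hd : ∀ u ∈ (P : Subgroup G), u * y = y * u → u ∈ Subgroup.centralizer (A : Set G) := by
    intro u hu huy
    rw [Subgroup.mem_centralizer_iff]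
    intro a ha
    rw [← commutatorElement_eq_one_iff_mul_comm]
    apply hby _ (hcomm_mem a u)
    have hay : Commute a y := hAc a ha y hyA
    have huy' : Commute u y := huy
    have hcm : Commute ⁅a, u⁆ y := by
      rw [commutatorElement_def]
      exact ((hay.mul_left huy').mul_left hay.inv_left).mul_left huy'.inv_left
    exact hcm.eq
  have hfpf : ∀ a ∈ A, a ≠ 1 → ∀ d ∈ commutator G, a * d = d * a → d = 1 := by
    intro a ha ha1 d hd had
    have ho1 : orderOf a ≠ 1 := fun h => ha1 (orderOf_eq_one_iff.mp h)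
    obtain ⟨r, hr, hrd⟩ := Nat.exists_prime_and_dvd ho1
    have ho := orderOf_pow_orderOf_div (orderOf_pos a).ne' hrd
    have hne : a ^ (orderOf a / r) ≠ 1 := by
      intro h1
      rw [h1, orderOf_one] at ho
      exact hr.one_lt.ne ho
    apply hb (a ^ (orderOf a / r)) (A.pow_mem ha _) hne r 1 hr (by rw [ho, pow_one]) d hd
    exact ((Commute.pow_left (show Commute a d from had) _).symm).eq
  have hDn : (commutator G).Normal := inferInstance
  have hg : ((P : Subgroup G) ⊓ Subgroup.centralizer (A : Set G)) ⊔ commutator G =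
      (P : Subgroup G) := by
    apply le_antisymm
    · exact sup_le inf_le_left hDP
    · intro u hu
      have ht : u * y * u⁻¹ * y⁻¹ ∈ commutator G := by
        have := hcomm_mem u y
        rwa [commutatorElement_def] at this
      obtain ⟨v, hv, hvy⟩ := exists_conj_of_fpf (commutator G) y hby (u * y * u⁻¹ * y⁻¹) ht
      have hvy' : v * y * v⁻¹ = u * y * u⁻¹ := by rw [hvy]; group
      have hc : (v⁻¹ * u) * y = y * (v⁻¹ * u) := by
        calc (v⁻¹ * u) * y = v⁻¹ * (u * y * u⁻¹) * u := by group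
          _ = v⁻¹ * (v * y * v⁻¹) * u := by rw [hvy']
          _ = y * (v⁻¹ * u) := by group
      have hcP : v⁻¹ * u ∈ (P : Subgroup G) :=
        (P : Subgroup G).mul_mem ((P : Subgroup G).inv_mem (hDP hv)) hu
      have hu' : u = v * (v⁻¹ * u) := by group
      rw [hu', sup_comm]
      exact Subgroup.mul_mem_sup hv ⟨hcP, hd _ hcP hc⟩
  have hf : ((P : Subgroup G) ⊓ Subgroup.centralizer (A : Set G)) ⊓ commutator G = ⊥ := by
    rw [eq_bot_iff]
    intro w hw
    rw [Subgroup.mem_bot]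
    apply hby w hw.2
    exact (Subgroup.mem_centralizer_iff.mp hw.1.2 y hyA).symm
  have hCc : IsMulCommutative ↥((P : Subgroup G) ⊓ Subgroup.centralizer (A : Set G)) := by
    refine ⟨⟨fun c₁ c₂ => ?_⟩⟩
    apply Subtype.ext
    show (c₁ : G) * c₂ = c₂ * c₁
    rw [← commutatorElement_eq_one_iff_mul_comm]
    have h1 : ⁅(c₁ : G), (c₂ : G)⁆ ∈
        ((P : Subgroup G) ⊓ Subgroup.centralizer (A : Set G)) ⊓ commutator G := by
      refine ⟨?_, hcomm_mem _ _⟩
      rw [commutatorElement_def]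
      exact Subgroup.mul_mem _ (Subgroup.mul_mem _ (Subgroup.mul_mem _ c₁.2 c₂.2)
        (Subgroup.inv_mem _ c₁.2)) (Subgroup.inv_mem _ c₂.2)
    rw [hf] at h1
    exact Subgroup.mem_bot.mp h1
  have hKne : commutator G ≠ ⊥ := by
    intro h0
    apply hab
    refine ⟨⟨fun a b => ?_⟩⟩
    rw [← commutatorElement_eq_one_iff_mul_comm]
    have := hcomm_mem a b
    rw [h0] at this
    exact Subgroup.mem_bot.mp this
  have hAcyc : IsCyclic ↥A := by
    apply Cfsg.Agent.Lib.Helper35.isCyclic_of_fpf (commutator G) A hKne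
    · intro b hbA hb1
      rw [eq_bot_iff]
      intro w hw
      rw [Subgroup.mem_bot]
      apply hfpf b hbA hb1 w hw.1
      exact Subgroup.mem_centralizer_iff.mp hw.2 b (Set.mem_singleton b)
    · exact Group.isSolvable_of_comm (fun a b => Subtype.ext (hAc a a.2 b b.2))
    · left
      exact ⟨⟨fun a b => Subtype.ext (hAc a a.2 b b.2)⟩⟩
  refine ⟨p, hpF, P, A, hPn, hAcyc, hAne, hAp, hAP, hCc, ?_, ?_, ?_, ?_⟩
  · rw [hD_eq]; exact hDn
  · rw [hD_eq]; exact hg
  · rw [hD_eq]; exact hf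
  · rw [hD_eq]; exact hfpf

end Cfsg.Agent.Lib.Helper30.MulChar
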